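import Groth.Agent.CycK0.GysSec
import Groth.Agent.RedSepLib.Basic
import Groth.Agent.GeomRedPull.Basic
import Groth.Prelude.Def_FDesc
import Mathlib

/-!
# Lengths of local rings at maximal points under extension of the base field
-/

set_option autoImplicit false
set_option linter.style.haveILetI false
set_option backward.isDefEq.respectTransparency false

universe u

open CategoryTheory CategoryTheory.Limits AlgebraicGeometry IsLocalRing TensorProduct

namespace Groth.Agent.FBaseLen

theorem length_tensor {R S : Type u} [CommRing R] [IsLocalRing R] [CommRing S] [Algebra R S] [Module.Flat R S]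
    {M : Type u} [AddCommGroup M] [Module R M] (h : IsFiniteLength R M) :
    Module.length S (S ⊗[R] M) =
      Module.length R M * Module.length S (S ⧸ (maximalIdeal R).map (algebraMap R S)) := by
  induction h with
  | @of_subsingleton V _ _ hV =>
    have : Subsingleton (S ⊗[R] V) := ⟨fun a b => by
      have z : ∀ c : S ⊗[R] V, c = 0 := fun c => by
        induction c using TensorProduct.induction_on with
        | zero => rfl
        | tmul s v => rw [Subsingleton.elim v 0, TensorProduct.tmul_zero]
        | add x y hx hy => rw [hx, hy, add_zero]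
      rw [z a, z b]⟩
    rw [Module.length_eq_zero, Module.length_eq_zero, zero_mul]
  | @of_simple_quotient V _ _ N hs _ ih =>
    let f : S ⊗[R] N →ₗ[S] S ⊗[R] V := TensorProduct.AlgebraTensorModule.lTensor S S N.subtype
    let g : S ⊗[R] V →ₗ[S] S ⊗[R] (V ⧸ N) := TensorProduct.AlgebraTensorModule.lTensor S S N.mkQ
    have hf : Function.Injective f :=
      Module.Flat.lTensor_preserves_injective_linearMap (M := S) N.subtype N.subtype_injective
    have hg : Function.Surjective g := LinearMap.lTensor_surjective S N.mkQ_surjective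
    have hfg : Function.Exact f g := lTensor_exact S (LinearMap.exact_subtype_mkQ N) N.mkQ_surjective
    rw [Module.length_eq_add_of_exact f g hf hg hfg, ih,
      Module.length_eq_add_of_exact N.subtype N.mkQ N.subtype_injective N.mkQ_surjective (LinearMap.exact_subtype_mkQ N),
      Module.length_eq_one R (V ⧸ N), add_mul, one_mul]
    congr 1
    obtain ⟨I, hI, ⟨e⟩⟩ := isSimpleModule_iff_quot_maximal.1 hs
    obtain rfl := IsLocalRing.eq_maximalIdeal hI
    exact ((TensorProduct.AlgebraTensorModule.congr (LinearEquiv.refl S S) e).trans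
      (Algebra.TensorProduct.quotIdealMapEquivTensorQuot S (maximalIdeal R)).symm.toLinearEquiv).length_eq

theorem length_eq_mul {R S : Type u} [CommRing R] [IsLocalRing R] [IsArtinianRing R] [CommRing S]
    (φ : R →+* S) (hφ : φ.Flat) :
    Module.length S S = Module.length R R * Module.length S (S ⧸ (maximalIdeal R).map φ) := by
  algebraize [φ]
  haveI : Module.Flat R S := hφ
  have h : IsFiniteLength R R := (isArtinianRing_iff_isFiniteLength R).1 ‹_›
  exact ((TensorProduct.AlgebraTensorModule.rid R S S).symm.length_eq).trans (length_tensor h)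

theorem length_of_quotient {S T : Type u} [CommRing S] [CommRing T] (ψ : S →+* T) (hψ : Function.Surjective ψ) :
    Module.length T T = Module.length S (S ⧸ RingHom.ker ψ) := by
  letI := ψ.toAlgebra
  rw [← Module.length_eq_of_surjective (R := T) (M := T) (S := S) hψ]
  exact (LinearMap.quotKerEquivOfSurjective (Algebra.linearMap S T) hψ).symm.length_eq

theorem length_eq_of_ringEquiv {S T : Type u} [CommRing S] [CommRing T] (e : S ≃+* T) :
    Module.length S S = Module.length T T := by
  rw [length_of_quotient e.toRingHom e.surjective]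
  rw [show RingHom.ker e.toRingHom = ⊥ from (RingHom.injective_iff_ker_eq_bot _).1 e.injective]
  exact ((Submodule.quotEquivOfEqBot (⊥ : Ideal S) rfl).length_eq).symm

theorem isArtinianRing_stalk {X : Scheme.{u}} [IsLocallyNoetherian X] {x : X}
    (hx : ∀ z : X, z ⤳ x → z = x) : IsArtinianRing (X.presheaf.stalk x) := by
  rw [isArtinianRing_iff_krullDimLE_zero, Ring.krullDimLE_zero_iff]
  intro p hp
  have h1 : X.fromSpecStalk x ⟨p, hp⟩ = x := hx _ (by
    have h := (IsLocalRing.specializes_closedPoint (⟨p, hp⟩ : PrimeSpectrum (X.presheaf.stalk x))).map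
      (X.fromSpecStalk x).continuous
    rwa [Scheme.fromSpecStalk_closedPoint] at h)
  have h2 : (⟨p, hp⟩ : PrimeSpectrum (X.presheaf.stalk x)) = closedPoint _ :=
    (X.fromSpecStalk x).isEmbedding.injective (h1.trans (Scheme.fromSpecStalk_closedPoint (x := x)).symm)
  have h3 : p = maximalIdeal _ := congrArg PrimeSpectrum.asIdeal h2
  exact h3 ▸ IsLocalRing.maximalIdeal.isMaximal _

theorem maximal_image {X Y : Scheme.{u}} (f : X ⟶ Y) [Flat f] {x : X} (hx : ∀ z : X, z ⤳ x → z = x) :
    ∀ z : Y, z ⤳ f x → z = f x := fun z hz => by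
  obtain ⟨w, hw, rfl⟩ := Flat.generalizingMap (f := f) hz
  rw [hx w hw]

theorem ker_eq_maximalIdeal {R T : Type u} [CommRing R] [IsLocalRing R] [IsArtinianRing R] [CommRing T]
    [Nontrivial T] [_root_.IsReduced T] (ψ : R →+* T) : RingHom.ker ψ = maximalIdeal R := by
  refine le_antisymm (IsLocalRing.le_maximalIdeal (RingHom.ker_ne_top ψ)) fun a ha => ?_
  obtain ⟨n, hn⟩ := (isArtinianRing_iff_isNilpotent_maximalIdeal R).1 ‹_›
  exact IsNilpotent.eq_zero (x := ψ a)
    ⟨n, by rw [← map_pow, show a ^ n = 0 from (hn.le (Ideal.pow_mem_pow ha n)), map_zero]⟩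

theorem length_eq_one_of_maximal {Z : Scheme.{u}} [AlgebraicGeometry.IsReduced Z] [IsLocallyNoetherian Z] {z : Z}
    (hz : ∀ w : Z, w ⤳ z → w = z) : Module.length (Z.presheaf.stalk z) (Z.presheaf.stalk z) = 1 := by
  haveI := isArtinianRing_stalk hz
  have h := ker_eq_maximalIdeal (RingHom.id (Z.presheaf.stalk z))
  rw [Module.length_eq_one_iff, isSimpleModule_iff_quot_maximal]
  exact ⟨⊥, by rw [show (⊥ : Ideal (Z.presheaf.stalk z)) = maximalIdeal _ from (by rw [← h]; exact ((RingHom.injective_iff_ker_eq_bot _).1 fun _ _ e => e).symm)]; exact IsLocalRing.maximalIdeal.isMaximal _,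
    ⟨(Submodule.quotEquivOfEqBot (⊥ : Ideal (Z.presheaf.stalk z)) rfl).symm⟩⟩

/-- length at a maximal point along a flat map, with the reduced fibre given by a pullback square -/
theorem length_stalk_eq_mul {X X' D Z : Scheme.{u}} (f : X' ⟶ X) (i : D ⟶ X) (j : Z ⟶ X') (r : Z ⟶ D)
    [Flat f] [IsClosedImmersion i] [AlgebraicGeometry.IsReduced D] [IsLocallyNoetherian X]
    (sq : IsPullback j r f i) (z : Z) (hz : ∀ w : X', w ⤳ j z → w = j z) :
    Module.length (X'.presheaf.stalk (j z)) (X'.presheaf.stalk (j z)) =
      Module.length (X.presheaf.stalk (f (j z))) (X.presheaf.stalk (f (j z))) *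
        Module.length (Z.presheaf.stalk z) (Z.presheaf.stalk z) := by
  obtain ⟨e, he⟩ : ∃ e : Z ≅ pullback f i, e.hom ≫ pullback.fst f i = j :=
    ⟨sq.isoPullback, sq.isoPullback_hom_fst⟩
  subst he
  rw [Scheme.Hom.comp_apply] at hz ⊢
  rw [length_eq_of_ringEquiv (asIso (e.hom.stalkMap z)).commRingCatIsoToRingEquiv.symm]
  generalize e.hom z = w at hz ⊢
  haveI := isArtinianRing_stalk (maximal_image f hz)
  have hw : i ((pullback.snd f i) w) = f ((pullback.fst f i) w) := by
    rw [← Scheme.Hom.comp_apply, ← Scheme.Hom.comp_apply, pullback.condition]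
  rw [length_of_quotient _ ((pullback.fst f i).stalkMap_surjective w),
    CycK0.ker_pullback_fst f i w hw, ker_eq_maximalIdeal]
  exact length_eq_mul _ (Flat.stalkMap f _)

theorem isPullback_bcMap {k' k'' : Type u} [Field k'] [Field k''] [Algebra k' k''] {X' Z : Scheme.{u}}
    (i : Z ⟶ X') (g : X' ⟶ Spec (CommRingCat.of k')) :
    IsPullback (pullback.map (i ≫ g) (Spec.map (CommRingCat.ofHom (algebraMap k' k''))) g
        (Spec.map (CommRingCat.ofHom (algebraMap k' k''))) i (𝟙 _) (𝟙 _)
        (Category.comp_id _) ((Category.comp_id _).trans (Category.id_comp _).symm))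
      (FBase.bcπ (i ≫ g) k'') (FBase.bcπ g k'') i := by
  refine IsPullback.of_right ?_ ?_ (IsPullback.of_hasPullback g _).flip |>.flip.flip
  · convert (IsPullback.of_hasPullback (i ≫ g) (Spec.map (CommRingCat.ofHom (algebraMap k' k'')))).flip using 1
    all_goals first | rfl | simp [FBase.bcπ]
  · simp [FBase.bcπ]

theorem length_bc_eq_mul {k' k'' : Type u} [Field k'] [Field k''] [Algebra k' k''] {X' : Scheme.{u}}
    [IsLocallyNoetherian X'] (g : X' ⟶ Spec (CommRingCat.of k')) (x'' : ↥(FBase.bc g k''))
    (hx'' : ∀ z : ↥(FBase.bc g k''), z ⤳ x'' → z = x'') (z'' : ↥(FBase.bc (X'.nilradical.subschemeι ≫ g) k''))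
    (hz'' : pullback.map (X'.nilradical.subschemeι ≫ g) (Spec.map (CommRingCat.ofHom (algebraMap k' k''))) g
        (Spec.map (CommRingCat.ofHom (algebraMap k' k''))) X'.nilradical.subschemeι (𝟙 _) (𝟙 _)
        (Category.comp_id _) ((Category.comp_id _).trans (Category.id_comp _).symm) z'' = x'') :
    Module.length ((FBase.bc g k'').presheaf.stalk x'') ((FBase.bc g k'').presheaf.stalk x'') =
      Module.length (X'.presheaf.stalk (FBase.bcπ g k'' x'')) (X'.presheaf.stalk (FBase.bcπ g k'' x'')) *
        Module.length ((FBase.bc (X'.nilradical.subschemeι ≫ g) k'').presheaf.stalk z'')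
          ((FBase.bc (X'.nilradical.subschemeι ≫ g) k'').presheaf.stalk z'') := by
  set j := pullback.map (X'.nilradical.subschemeι ≫ g) (Spec.map (CommRingCat.ofHom (algebraMap k' k''))) g
    (Spec.map (CommRingCat.ofHom (algebraMap k' k''))) X'.nilradical.subschemeι (𝟙 _) (𝟙 _)
    (Category.comp_id _) ((Category.comp_id _).trans (Category.id_comp _).symm)
  subst hz''
  haveI : Flat (FBase.bcπ g k'') := by
    unfold FBase.bcπ
    infer_instance
  haveI := RedSepLib.isReduced_subscheme_nilradical X'
  exact length_stalk_eq_mul (FBase.bcπ g k'') X'.nilradical.subschemeι j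
    (FBase.bcπ (X'.nilradical.subschemeι ≫ g) k'') (isPullback_bcMap _ g) z'' hx''

theorem length_bc_eq {k' k'' : Type u} [Field k'] [Field k''] [Algebra k' k''] {X' : Scheme.{u}}
    [IsLocallyNoetherian X'] (g : X' ⟶ Spec (CommRingCat.of k'))
    [GeometricallyReduced (Spec.map (CommRingCat.ofHom (algebraMap k' k'')))]
    [IsLocallyNoetherian (FBase.bc (X'.nilradical.subschemeι ≫ g) k'')]
    (x'' : ↥(FBase.bc g k'')) (hx'' : ∀ z : ↥(FBase.bc g k''), z ⤳ x'' → z = x'') :
    Module.length ((FBase.bc g k'').presheaf.stalk x'') ((FBase.bc g k'').presheaf.stalk x'') =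
      Module.length (X'.presheaf.stalk (FBase.bcπ g k'' x'')) (X'.presheaf.stalk (FBase.bcπ g k'' x'')) := by
  set j := pullback.map (X'.nilradical.subschemeι ≫ g) (Spec.map (CommRingCat.ofHom (algebraMap k' k''))) g
    (Spec.map (CommRingCat.ofHom (algebraMap k' k''))) X'.nilradical.subschemeι (𝟙 _) (𝟙 _)
    (Category.comp_id _) ((Category.comp_id _).trans (Category.id_comp _).symm) with hj
  haveI : IsClosedImmersion X'.nilradical.subschemeι := inferInstance
  haveI : Surjective X'.nilradical.subschemeι := ⟨by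
    rw [← Set.range_eq_univ, Scheme.IdealSheafData.range_subschemeι, Scheme.support_nilradical]; rfl⟩
  have sq := isPullback_bcMap (k'' := k'') X'.nilradical.subschemeι g
  rw [← hj] at sq
  haveI : IsClosedImmersion j := MorphismProperty.of_isPullback sq.flip ‹_›
  haveI : Surjective j := MorphismProperty.of_isPullback sq.flip ‹_›
  haveI := RedSepLib.isReduced_subscheme_nilradical X'
  obtain ⟨z'', hz''⟩ := j.surjective x''
  haveI : AlgebraicGeometry.IsReduced (FBase.bc (X'.nilradical.subschemeι ≫ g) k'') := by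
    haveI := GeomRedPull.isReduced_pullback (Spec.map (CommRingCat.ofHom (algebraMap k' k'')))
      (X'.nilradical.subschemeι ≫ g)
    exact isReduced_of_isOpenImmersion (pullbackSymmetry (X'.nilradical.subschemeι ≫ g)
      (Spec.map (CommRingCat.ofHom (algebraMap k' k'')))).hom
  rw [length_bc_eq_mul g x'' hx'' z'' hz'', length_eq_one_of_maximal (Z := FBase.bc (X'.nilradical.subschemeι ≫ g) k'') (fun w hw =>
    j.isClosedEmbedding.injective ((hx'' _ (hz'' ▸ hw.map j.continuous)).trans hz''.symm)), mul_one]

end Groth.Agent.FBaseLen
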